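import Groth.Agent.FlatMorOne.FlatnessCriteria
import Groth.Agent.FlatMorOne.FlatLocusNoeth
import Groth.Agent.Calg1.InjModMaximal
import Groth.Prelude.Def_EGA4b
import Mathlib

/-! Openness of the locus where a complex of free modules is exact in the fibre local rings. -/

set_option autoImplicit false
set_option linter.style.haveILetI false
set_option maxHeartbeats 1000000
set_option backward.isDefEq.respectTransparency.types false

universe u

open TensorProduct IsLocalRing Matrix

namespace Groth.FibreExact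

section Local

variable {A B : Type u} [CommRing A] [CommRing B] [Algebra A B]

theorem mem_smul_top_pi_iff (J : Ideal A) {ι : Type*} [Fintype ι] (v : ι → B) :
    v ∈ J • (⊤ : Submodule A (ι → B)) ↔ ∀ j, v j ∈ J.map (algebraMap A B) := by
  classical
  constructor
  · intro h j
    refine Submodule.smul_induction_on h (fun a ha w _ => ?_) fun a b ha hb => ?_
    · rw [Pi.smul_apply, Algebra.smul_def]
      exact Ideal.mul_mem_right _ _ (Ideal.mem_map_of_mem _ ha)
    · exact add_mem ha hb
  · intro h
    rw [show v = ∑ i, LinearMap.single A (fun _ : ι => B) i (v i) from (Finset.univ_sum_single v).symm]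
    refine sum_mem fun i _ => ?_
    have hi : v i ∈ J • (⊤ : Submodule A B) := by
      rw [Ideal.smul_top_eq_map]
      exact h i
    have := Submodule.mem_map_of_mem (f := LinearMap.single A (fun _ : ι => B) i) hi
    rw [Submodule.map_smul''] at this
    exact Submodule.smul_mono le_rfl le_top this

theorem one_tmul_eq_zero_iff (J : Ideal A) {X : Type u} [AddCommGroup X] [Module A X] (x : X) :
    (1 : A ⧸ J) ⊗ₜ[A] x = 0 ↔ x ∈ J • (⊤ : Submodule A X) := by
  rw [← LinearMap.ker_tensorProductMk, LinearMap.mem_ker, TensorProduct.mk_apply]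

theorem mk_mem_smul_top_iff (J : Ideal A) {X : Type u} [AddCommGroup X] [Module A X] [Module B X]
    [IsScalarTower A B X] (W : Submodule B X) (v : X) :
    (Submodule.Quotient.mk v : X ⧸ W) ∈ J • (⊤ : Submodule A (X ⧸ W)) ↔
      ∃ x ∈ J • (⊤ : Submodule A X), v - x ∈ W := by
  have htop : J • (⊤ : Submodule A (X ⧸ W)) = (J • (⊤ : Submodule A X)).map (W.mkQ.restrictScalars A) := by
    rw [Submodule.map_smul'', Submodule.map_top, (LinearMap.range_eq_top (f := W.mkQ.restrictScalars A)).2 (Submodule.mkQ_surjective W)]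
  rw [htop]
  constructor
  · rintro ⟨x, hx, hxv⟩
    exact ⟨x, hx, (Submodule.Quotient.eq W).1 hxv.symm⟩
  · rintro ⟨x, hx, hxv⟩
    exact ⟨x, hx, ((Submodule.Quotient.eq W).2 hxv).symm⟩

variable {m k l : ℕ} (P : Matrix (Fin m) (Fin k) B) (Q : Matrix (Fin k) (Fin l) B)

theorem range_le_ker (hPQ : P * Q = 0) : LinearMap.range Q.mulVecLin ≤ LinearMap.ker P.mulVecLin := by
  rintro _ ⟨w, rfl⟩
  rw [LinearMap.mem_ker, Matrix.mulVecLin_apply, Matrix.mulVecLin_apply, Matrix.mulVec_mulVec, hPQ,
    Matrix.zero_mulVec]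

variable (hPQ : P * Q = 0)

/-- The map out of the cokernel of the incoming differential. -/
noncomputable def outMap : ((Fin k → B) ⧸ LinearMap.range Q.mulVecLin) →ₗ[B] (Fin m → B) :=
  (LinearMap.range Q.mulVecLin).liftQ P.mulVecLin (range_le_ker P Q hPQ)

theorem range_outMap : LinearMap.range (outMap P Q hPQ) = LinearMap.range P.mulVecLin :=
  Submodule.range_liftQ _ _ _

theorem injective_outMap_iff :
    Function.Injective (outMap P Q hPQ) ↔ LinearMap.ker P.mulVecLin = LinearMap.range Q.mulVecLin := by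
  rw [← LinearMap.ker_eq_bot, outMap, Submodule.ker_liftQ, eq_bot_iff, Submodule.map_le_iff_le_comap,
    Submodule.comap_bot, Submodule.ker_mkQ]
  exact ⟨fun h => le_antisymm h (range_le_ker P Q hPQ), fun h => h.le⟩

/-- Injectivity modulo an ideal of the base, elementwise. -/
theorem injective_outMap_mod_iff (J : Ideal A) :
    Function.Injective (((outMap P Q hPQ).restrictScalars A).lTensor (A ⧸ J)) ↔
      ∀ v : Fin k → B, (∀ j, (P *ᵥ v) j ∈ J.map (algebraMap A B)) →
        ∃ w, ∀ j, (v - Q *ᵥ w) j ∈ J.map (algebraMap A B) := by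
  have hmem : ∀ v : Fin k → B, (Submodule.Quotient.mk v : (Fin k → B) ⧸ LinearMap.range Q.mulVecLin) ∈
      J • (⊤ : Submodule A ((Fin k → B) ⧸ LinearMap.range Q.mulVecLin)) ↔
      ∃ w, ∀ j, (v - Q *ᵥ w) j ∈ J.map (algebraMap A B) := by
    intro v
    rw [mk_mem_smul_top_iff J]
    constructor
    · rintro ⟨x, hx, w, hw⟩
      rw [Matrix.mulVecLin_apply] at hw
      refine ⟨w, ?_⟩
      rw [hw, sub_sub_cancel]
      exact (mem_smul_top_pi_iff J x).1 hx
    · rintro ⟨w, hw⟩
      refine ⟨v - Q *ᵥ w, (mem_smul_top_pi_iff J _).2 hw, w, ?_⟩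
      rw [Matrix.mulVecLin_apply, sub_sub_cancel]
  rw [injective_iff_map_eq_zero]
  constructor
  · intro h v hv
    refine (hmem v).1 ((one_tmul_eq_zero_iff J _).1 (h _ ?_))
    rw [LinearMap.lTensor_tmul, one_tmul_eq_zero_iff]
    exact (mem_smul_top_pi_iff J _).2 hv
  · intro h z hz
    obtain ⟨x, rfl⟩ := TensorProduct.mk_surjective A _ (A ⧸ J) Ideal.Quotient.mk_surjective z
    obtain ⟨v, rfl⟩ := Submodule.Quotient.mk_surjective _ x
    rw [TensorProduct.mk_apply] at hz ⊢
    rw [LinearMap.lTensor_tmul, one_tmul_eq_zero_iff] at hz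
    rw [one_tmul_eq_zero_iff, hmem]
    exact h v ((mem_smul_top_pi_iff J _).1 hz)

include hPQ in
/-- Exactness over a quotient ring, elementwise. -/
theorem exact_map_iff {B' : Type u} [CommRing B'] (σ : B →+* B') (hσ : Function.Surjective σ)
    (I : Ideal B) (hI : RingHom.ker σ = I) :
    LinearMap.ker (P.map σ).mulVecLin = LinearMap.range (Q.map σ).mulVecLin ↔
      ∀ v : Fin k → B, (∀ j, (P *ᵥ v) j ∈ I) → ∃ w, ∀ j, (v - Q *ᵥ w) j ∈ I := by
  subst hI
  have hle : LinearMap.range (Q.map σ).mulVecLin ≤ LinearMap.ker (P.map σ).mulVecLin :=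
    range_le_ker _ _ (by rw [← Matrix.map_mul, hPQ, Matrix.map_zero _ (map_zero σ)])
  constructor
  · intro h v hv
    have : σ ∘ v ∈ LinearMap.ker (P.map σ).mulVecLin := by
      rw [LinearMap.mem_ker, Matrix.mulVecLin_apply]
      funext j
      rw [← RingHom.map_mulVec]
      exact hv j
    rw [h] at this
    obtain ⟨w', hw'⟩ := this
    choose w hw using fun i => hσ (w' i)
    refine ⟨w, fun j => ?_⟩
    rw [RingHom.mem_ker, Pi.sub_apply, map_sub, RingHom.map_mulVec, show σ ∘ w = w' from funext hw]
    exact sub_eq_zero.2 (congrFun hw' j).symm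
  · intro h
    refine le_antisymm (fun v' hv' => ?_) hle
    choose v hv using fun i => hσ (v' i)
    obtain ⟨w, hw⟩ := h v fun j => by
      rw [RingHom.mem_ker, RingHom.map_mulVec, show σ ∘ v = v' from funext hv]
      exact congrFun (LinearMap.mem_ker.1 hv') j
    refine ⟨σ ∘ w, funext fun j => ?_⟩
    have := hw j
    rw [RingHom.mem_ker, Pi.sub_apply, map_sub, RingHom.map_mulVec, sub_eq_zero, hv] at this
    exact this.symm

variable [IsLocalRing A] [IsLocalRing B] [IsNoetherianRing B] [IsLocalHom (algebraMap A B)] [Module.Flat A B]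

include hPQ in
/-- Exactness in the closed fibre is exactness with flat cokernel. -/
theorem exact_fibre_iff {B' : Type u} [CommRing B'] (σ : B →+* B') (hσ : Function.Surjective σ)
    (hker : RingHom.ker σ = (maximalIdeal A).map (algebraMap A B)) :
    LinearMap.ker (P.map σ).mulVecLin = LinearMap.range (Q.map σ).mulVecLin ↔
      LinearMap.ker P.mulVecLin = LinearMap.range Q.mulVecLin ∧
        Module.Flat A ((Fin m → B) ⧸ LinearMap.range P.mulVecLin) := by
  let u := (outMap P Q hPQ).restrictScalars A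
  have he : Nonempty (((Fin m → B) ⧸ LinearMap.range P.mulVecLin) ≃ₗ[A] ((Fin m → B) ⧸ LinearMap.range u)) :=
    ⟨((Submodule.quotEquivOfEq _ _ (range_outMap P Q hPQ).symm).restrictScalars A).trans
      ((Submodule.Quotient.restrictScalarsEquiv A _).symm.trans (Submodule.quotEquivOfEq _ _
        (LinearMap.range_restrictScalars (outMap P Q hPQ)).symm))⟩
  obtain ⟨e⟩ := he
  rw [exact_map_iff P Q hPQ σ hσ _ hker, ← injective_outMap_mod_iff P Q hPQ (maximalIdeal A),
    ← injective_outMap_iff P Q hPQ]
  haveI : Module.Flat A (Fin m → B) :=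
    Module.Flat.of_linearEquiv (DFinsupp.linearEquivFunOnFintype (R := A) (M := fun _ : Fin m => B)).symm
  constructor
  · intro h
    obtain ⟨hu, hflat⟩ := Groth.FlatMorOne.injective_and_flat_coker B u h
    exact ⟨hu, Module.Flat.of_linearEquiv e⟩
  · rintro ⟨hu, hflat⟩
    haveI : Module.Flat A ((Fin m → B) ⧸ LinearMap.range u) := Module.Flat.of_linearEquiv e.symm
    exact (LinearMap.lTensor_inj_iff_rTensor_inj _ _).mpr
      (Groth.Calg1.rTensor_injective_of_flat_coker (g := u) (π := (LinearMap.range u).mkQ) hu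
        (LinearMap.exact_map_mkQ_range u) (Submodule.mkQ_surjective _) _)

end Local

section Localization

variable {S : Type u} [CommRing S] (T : Submonoid S) (B : Type u) [CommRing B] [Algebra S B] [IsLocalization T B]
  {m k : ℕ} (P : Matrix (Fin m) (Fin k) S)

theorem map_mulVec_eq (w : Fin k → S) :
    (P.map (algebraMap S B)) *ᵥ (algebraMap S B ∘ w) = algebraMap S B ∘ (P *ᵥ w) :=
  funext fun j => (RingHom.map_mulVec (algebraMap S B) P w j).symm

include T in
theorem exists_common_den {ι : Type*} [Finite ι] (b : ι → B) :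
    ∃ t ∈ T, ∃ v : ι → S, algebraMap S B ∘ v = t • b := by
  obtain ⟨t, ht⟩ := IsLocalization.exist_integer_multiples_of_finite T b
  choose v hv using ht
  exact ⟨t, t.2, v, funext fun i => hv i⟩

include T in
theorem comp_eq_zero_iff {ι : Type*} [Fintype ι] (x : ι → S) :
    algebraMap S B ∘ x = 0 ↔ ∃ t ∈ T, t • x = 0 := by
  constructor
  · intro h
    choose c hc using fun i => (IsLocalization.map_eq_zero_iff T B (x i)).1 (congrFun h i)
    refine ⟨∏ i, (c i : S), prod_mem fun i _ => (c i).2, funext fun i => ?_⟩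
    classical
    rw [Pi.smul_apply, smul_eq_mul, ← Finset.prod_erase_mul _ _ (Finset.mem_univ i), mul_assoc, hc i,
      mul_zero]
    rfl
  · rintro ⟨t, ht, h⟩
    exact funext fun i => (IsLocalization.map_eq_zero_iff T B (x i)).2 ⟨⟨t, ht⟩, congrFun h i⟩

include T in
theorem comp_mem_range_iff (x : Fin m → S) :
    algebraMap S B ∘ x ∈ LinearMap.range (P.map (algebraMap S B)).mulVecLin ↔
      ∃ t ∈ T, t • x ∈ LinearMap.range P.mulVecLin := by
  constructor
  · rintro ⟨b, hb⟩
    obtain ⟨s, hs, w, hw⟩ := exists_common_den T B b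
    obtain ⟨t, ht, hx⟩ := (comp_eq_zero_iff T B (s • x - P *ᵥ w)).1 (funext fun i => by
      rw [Matrix.mulVecLin_apply] at hb
      have h1 := congrFun (map_mulVec_eq B P w) i
      rw [hw, Matrix.mulVec_smul, hb] at h1
      simp only [Function.comp_apply, Pi.sub_apply, Pi.smul_apply, Pi.zero_apply] at h1 ⊢
      rw [smul_eq_mul, map_sub, map_mul, ← h1, Algebra.smul_def, sub_self])
    refine ⟨t * s, mul_mem ht hs, t • w, ?_⟩
    rw [smul_sub, sub_eq_zero] at hx
    rw [Matrix.mulVecLin_apply, Matrix.mulVec_smul, ← hx, mul_smul]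
  · rintro ⟨t, ht, w, hw⟩
    obtain ⟨c, hc⟩ := IsLocalization.map_units B (⟨t, ht⟩ : T)
    refine ⟨((c⁻¹ : Bˣ) : B) • (algebraMap S B ∘ w), ?_⟩
    rw [Matrix.mulVecLin_apply] at hw
    rw [Matrix.mulVecLin_apply, Matrix.mulVec_smul, map_mulVec_eq, hw]
    funext i
    simp only [Pi.smul_apply, Function.comp_apply, smul_eq_mul, map_mul]
    rw [← mul_assoc, show algebraMap S B t = (c : B) from hc.symm, Units.inv_mul, one_mul]

/-- The cokernel over the localization is the localized cokernel. -/
noncomputable def cokerMap : ((Fin m → S) ⧸ LinearMap.range P.mulVecLin) →ₗ[S]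
    ((Fin m → B) ⧸ LinearMap.range (P.map (algebraMap S B)).mulVecLin) :=
  (LinearMap.range P.mulVecLin).liftQ
    ((LinearMap.range (P.map (algebraMap S B)).mulVecLin).mkQ.restrictScalars S ∘ₗ
      (Algebra.linearMap S B).compLeft (Fin m)) (by
    rintro _ ⟨w, rfl⟩
    refine LinearMap.mem_ker.2 ((Submodule.Quotient.mk_eq_zero _).2 ⟨algebraMap S B ∘ w, ?_⟩)
    rw [Matrix.mulVecLin_apply, map_mulVec_eq]
    rfl)

theorem cokerMap_mk (x : Fin m → S) :
    cokerMap B P (Submodule.Quotient.mk x) = Submodule.Quotient.mk (algebraMap S B ∘ x) := rfl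

include T in
theorem isLocalizedModule_cokerMap : IsLocalizedModule T (cokerMap B P) where
  map_units t := by
    rw [Module.End.isUnit_iff]
    have hu := IsLocalization.map_units B t
    have : ∀ y : (Fin m → B) ⧸ LinearMap.range (P.map (algebraMap S B)).mulVecLin,
        (t : S) • y = algebraMap S B t • y := fun y => (algebraMap_smul B (t : S) y).symm
    refine ⟨fun a b h => ?_, fun b => ?_⟩
    · simp only [Module.algebraMap_end_apply, this] at h
      exact hu.smul_left_cancel.1 h
    · refine ⟨((hu.unit⁻¹ : Bˣ) : B) • b, ?_⟩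
      simp only [Module.algebraMap_end_apply, this, smul_smul, IsUnit.mul_val_inv, one_smul]
  surj y := by
    obtain ⟨b, rfl⟩ := Submodule.Quotient.mk_surjective _ y
    obtain ⟨t, ht, v, hv⟩ := exists_common_den T B b
    refine ⟨⟨Submodule.Quotient.mk v, ⟨t, ht⟩⟩, ?_⟩
    rw [Submonoid.smul_def, cokerMap_mk, hv, Submodule.Quotient.mk_smul]
  exists_of_eq {a b} h := by
    obtain ⟨x, rfl⟩ := Submodule.Quotient.mk_surjective _ a
    obtain ⟨y, rfl⟩ := Submodule.Quotient.mk_surjective _ b
    rw [cokerMap_mk, cokerMap_mk, Submodule.Quotient.eq] at h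
    obtain ⟨t, ht, hx⟩ := (comp_mem_range_iff T B P (x - y)).1 (by
      convert h using 1
      funext i
      simp)
    refine ⟨⟨t, ht⟩, ?_⟩
    rw [Submonoid.smul_def, Submonoid.smul_def, ← Submodule.Quotient.mk_smul, ← Submodule.Quotient.mk_smul,
      Submodule.Quotient.eq, ← smul_sub]
    exact hx

include T in
theorem exact_map_iff_exists {l : ℕ} (Q : Matrix (Fin k) (Fin l) S) (hPQ : P * Q = 0) :
    LinearMap.ker (P.map (algebraMap S B)).mulVecLin = LinearMap.range (Q.map (algebraMap S B)).mulVecLin ↔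
      ∀ v ∈ LinearMap.ker P.mulVecLin, ∃ t ∈ T, t • v ∈ LinearMap.range Q.mulVecLin := by
  constructor
  · intro h v hv
    refine (comp_mem_range_iff T B Q v).1 (h ▸ ?_)
    rw [LinearMap.mem_ker, Matrix.mulVecLin_apply, map_mulVec_eq, show P *ᵥ v = 0 from hv]
    exact funext fun _ => map_zero _
  · intro h
    refine le_antisymm (fun b hb => ?_) (range_le_ker _ _ (by
      rw [← Matrix.map_mul, hPQ, Matrix.map_zero _ (map_zero _)]))
    obtain ⟨s, hs, v, hv⟩ := exists_common_den T B b
    obtain ⟨t, ht, htv⟩ := (comp_eq_zero_iff T B (P *ᵥ v)).1 (by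
      rw [← map_mulVec_eq, hv, Matrix.mulVec_smul,
        show (P.map (algebraMap S B)) *ᵥ b = 0 from hb, smul_zero])
    obtain ⟨t', ht', hr⟩ := h (t • v) (by rw [LinearMap.mem_ker, Matrix.mulVecLin_apply, Matrix.mulVec_smul, htv])
    obtain ⟨w, hw⟩ := (comp_mem_range_iff T B Q v).2 ⟨t' * t, mul_mem ht' ht, by rwa [mul_smul]⟩
    obtain ⟨c, hc⟩ := IsLocalization.map_units B (⟨s, hs⟩ : T)
    refine ⟨((c⁻¹ : Bˣ) : B) • w, ?_⟩
    rw [map_smul, hw, hv]
    funext i
    rw [Pi.smul_apply, Pi.smul_apply, smul_eq_mul, Algebra.smul_def, ← mul_assoc, mul_comm _ (algebraMap S B s),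
      mul_comm (algebraMap S B s),
      show algebraMap S B s = (c : B) from hc.symm, Units.inv_mul, one_mul]

end Localization

variable {R S : Type u} [CommRing R] [IsNoetherianRing R] [CommRing S] [Algebra R S] [Algebra.FiniteType R S]
  [Module.Flat R S] {m k l : ℕ}

/-- Exactness at one spot in the fibre local rings is an open condition. -/
theorem isOpen_setOf_exact_fibre (P : Matrix (Fin m) (Fin k) S) (Q : Matrix (Fin k) (Fin l) S) (hPQ : P * Q = 0) :
    IsOpen {q : PrimeSpectrum S |
      LinearMap.ker (P.map (algebraMap S (EGA4.FibLocRing R S q.asIdeal))).mulVecLin =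
        LinearMap.range (Q.map (algebraMap S (EGA4.FibLocRing R S q.asIdeal))).mulVecLin} := by
  classical
  haveI : IsNoetherianRing S := Algebra.FiniteType.isNoetherianRing R S
  let M := (Fin m → S) ⧸ LinearMap.range P.mulVecLin
  have key : ∀ q : PrimeSpectrum S,
      LinearMap.ker (P.map (algebraMap S (EGA4.FibLocRing R S q.asIdeal))).mulVecLin =
          LinearMap.range (Q.map (algebraMap S (EGA4.FibLocRing R S q.asIdeal))).mulVecLin ↔
        (∀ v ∈ LinearMap.ker P.mulVecLin, ∃ t ∈ q.asIdeal.primeCompl, t • v ∈ LinearMap.range Q.mulVecLin) ∧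
          Module.Flat R (LocalizedModule q.asIdeal.primeCompl M) := by
    intro q
    let p := q.asIdeal.comap (algebraMap R S)
    let A := Localization.AtPrime p
    let B := Localization.AtPrime q.asIdeal
    letI : Algebra A B := (Localization.localRingHom p q.asIdeal (algebraMap R S) rfl).toAlgebra
    haveI : IsScalarTower R A B := IsScalarTower.of_algebraMap_eq fun a => by
      rw [RingHom.algebraMap_toAlgebra, Localization.localRingHom_to_map, ← IsScalarTower.algebraMap_apply R S B]
    haveI : IsLocalHom (algebraMap A B) :=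
      Localization.isLocalHom_localRingHom p q.asIdeal (algebraMap R S) rfl
    haveI : Module.Flat R B := Module.Flat.trans R S B
    haveI : Module.Flat A B := (Module.flat_iff_of_isLocalization A p.primeCompl B).mpr inferInstance
    haveI : IsNoetherianRing B := IsLocalization.isNoetherianRing q.asIdeal.primeCompl B inferInstance
    let σ : B →+* EGA4.FibLocRing R S q.asIdeal := Ideal.Quotient.mk _
    have hker : RingHom.ker σ = (maximalIdeal A).map (algebraMap A B) := by
      rw [Ideal.mk_ker, ← Localization.AtPrime.map_eq_maximalIdeal, Ideal.map_map, ← IsScalarTower.algebraMap_eq]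
    have hM : ∀ {a b : ℕ} (X : Matrix (Fin a) (Fin b) S),
        X.map (algebraMap S (EGA4.FibLocRing R S q.asIdeal)) = (X.map (algebraMap S B)).map σ := fun X => by
      rw [Matrix.map_map]
      rfl
    rw [hM, hM, exact_fibre_iff (A := A) (P.map (algebraMap S B)) (Q.map (algebraMap S B))
      (by rw [← Matrix.map_mul, hPQ, Matrix.map_zero _ (map_zero _)]) σ Ideal.Quotient.mk_surjective hker,
      exact_map_iff_exists q.asIdeal.primeCompl B P Q hPQ]
    refine and_congr Iff.rfl ?_
    let C := (Fin m → B) ⧸ LinearMap.range (P.map (algebraMap S B)).mulVecLin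
    haveI : IsScalarTower R A C := IsScalarTower.of_algebraMap_smul fun r x => by
      rw [← algebraMap_smul B (algebraMap R A r) x, ← IsScalarTower.algebraMap_apply, algebraMap_smul]
    rw [Module.flat_iff_of_isLocalization A p.primeCompl C]
    haveI := isLocalizedModule_cokerMap q.asIdeal.primeCompl B P
    exact Module.Flat.equiv_iff
      ((IsLocalizedModule.iso q.asIdeal.primeCompl (cokerMap B P)).symm.restrictScalars R)
  simp only [key, Set.ofPred_and]
  refine IsOpen.inter ?_ Groth.FlatMorOne.isOpen_flatLocus_of_isNoetherianRing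
  rw [isOpen_iff_forall_mem_open]
  intro q hq
  obtain ⟨s, hs⟩ := IsNoetherian.noetherian (LinearMap.ker P.mulVecLin)
  choose t ht htv using fun x : s => hq x.1 (hs ▸ Submodule.subset_span x.2)
  refine ⟨(PrimeSpectrum.basicOpen (∏ x, t x) : Set (PrimeSpectrum S)), fun q' hq' v hv => ?_,
    PrimeSpectrum.isOpen_basicOpen, ?_⟩
  · refine ⟨∏ x, t x, hq', ?_⟩
    rw [← hs] at hv
    induction hv using Submodule.span_induction with
    | mem z hz =>
      rw [← Finset.prod_erase_mul _ t (Finset.mem_univ ⟨z, hz⟩), mul_smul]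
      exact Submodule.smul_mem _ _ (htv ⟨z, hz⟩)
    | zero => simp
    | add a b _ _ ha hb => rw [smul_add]; exact add_mem ha hb
    | smul r a _ ha => rw [smul_comm]; exact Submodule.smul_mem _ _ ha
  · exact fun h => (Ideal.IsPrime.prod_mem_iff.1 h).elim fun x hx => ht x hx.2

/-- A complex of free modules is exact in the fibre local rings over an open set. -/
theorem isOpen_setOf_complex_exact_fibre (e : ℕ) (n : ℕ → ℕ)
    (φ : (i : ℕ) → Matrix (Fin (n i)) (Fin (n (i + 1))) S) (hφ : ∀ i, i + 2 ≤ e → φ i * φ (i + 1) = 0) :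
    IsOpen {q : PrimeSpectrum S |
      (∀ i, i + 2 ≤ e →
        LinearMap.ker (Matrix.mulVecLin ((φ i).map (algebraMap S (EGA4.FibLocRing R S q.asIdeal)))) =
          LinearMap.range (Matrix.mulVecLin ((φ (i + 1)).map (algebraMap S (EGA4.FibLocRing R S q.asIdeal))))) ∧
      (1 ≤ e → Function.Injective
        (Matrix.mulVecLin ((φ (e - 1)).map (algebraMap S (EGA4.FibLocRing R S q.asIdeal)))))} := by
  rw [Set.ofPred_and]
  refine IsOpen.inter ?_ ?_
  · have h : ∀ i ∈ Finset.range e, IsOpen {q : PrimeSpectrum S | i + 2 ≤ e →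
        LinearMap.ker (Matrix.mulVecLin ((φ i).map (algebraMap S (EGA4.FibLocRing R S q.asIdeal)))) =
          LinearMap.range (Matrix.mulVecLin ((φ (i + 1)).map (algebraMap S (EGA4.FibLocRing R S q.asIdeal))))} := by
      intro i _
      by_cases hi : i + 2 ≤ e
      · simpa [hi] using isOpen_setOf_exact_fibre (φ i) (φ (i + 1)) (hφ i hi)
      · simp [hi]
    convert isOpen_biInter_finset h using 1
    ext q
    simp only [Set.mem_ofPred_eq, Set.mem_iInter, Finset.mem_range]
    exact ⟨fun hq i _ => hq i, fun hq i hi => hq i (by omega) hi⟩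
  · by_cases he : 1 ≤ e
    · convert isOpen_setOf_exact_fibre (R := R) (l := 0) (φ (e - 1)) 0 (Matrix.mul_zero _) using 1
      ext q
      simp only [Set.mem_ofPred_eq, he, forall_const, ← LinearMap.ker_eq_bot]
      rw [Matrix.map_zero _ (map_zero _), Matrix.mulVecLin_zero, LinearMap.range_zero]
    · simp [he]

end Groth.FibreExact
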