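import Groth.Agent.FibreDim.BaseChange
import Groth.Agent.S5758
import Mathlib

/-! Regular sequences in Cohen-Macaulay equidimensional algebras over a field, by local dimensions. -/

set_option autoImplicit false
set_option linter.style.haveILetI false
set_option backward.isDefEq.respectTransparency.types false

universe u

open AlgebraicGeometry CategoryTheory

namespace Groth.FibreRegular

theorem exists_nat_of_le {x : WithBot ℕ∞} {n : ℕ} (h0 : 0 ≤ x) (h : x ≤ (n : WithBot ℕ∞)) :
    ∃ m : ℕ, x = (m : WithBot ℕ∞) := by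
  obtain ⟨a, rfl⟩ : ∃ a : ℕ∞, x = (a : WithBot ℕ∞) := by
    induction x using WithBot.recBotCoe with
    | bot => simp at h0
    | coe a => exact ⟨a, rfl⟩
  have h' : a ≤ (n : ℕ∞) := WithBot.coe_le_coe.1 h
  obtain ⟨m, rfl⟩ := ENat.ne_top_iff_exists.1 (ne_top_of_le_ne_top (ENat.coe_ne_top n) h')
  exact ⟨m, rfl⟩

variable (k : Type u) [Field k] {F : Type u} [CommRing F] [Algebra k F] [Algebra.FiniteType k F]

include k in
/-- The local dimension as the dimension of the local ring plus that of the closure. -/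
theorem localDim_eq_add (Q : PrimeSpectrum F) :
    FlatMor.localDim (PrimeSpectrum F) Q =
      ringKrullDim (F ⧸ Q.asIdeal) + ringKrullDim (Localization.AtPrime Q.asIdeal) := by
  letI : (Spec (CommRingCat.of F)).Over (Spec (CommRingCat.of k)) :=
    ⟨Spec.map (CommRingCat.ofHom (algebraMap k F))⟩
  haveI : LocallyOfFiniteType ((Spec (CommRingCat.of F)) ↘ (Spec (CommRingCat.of k))) :=
    (HasRingHomProperty.Spec_iff (P := @LocallyOfFiniteType)).mpr (RingHom.finiteType_algebraMap.mpr ‹_›)
  refine (Groth.VarietyBC.localDim_eq_height_add k (X := Spec (CommRingCat.of F)) Q).trans ?_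
  rw [Groth.FibreDim.height_spec_eq ]
  congr 1
  exact ringKrullDim_eq_of_ringEquiv (StructureSheaf.stalkIso F Q).toRingEquiv.symm

variable {d : ℕ} (heq : ∀ P ∈ minimalPrimes F, ringKrullDim (F ⧸ P) = (d : WithBot ℕ∞))

include k heq in
theorem localDim_eq_of_equidim (Q : PrimeSpectrum F) : FlatMor.localDim (PrimeSpectrum F) Q = (d : WithBot ℕ∞) := by
  have hmin : ∀ p : PrimeSpectrum F, ∃ P ∈ minimalPrimes F, P ≤ p.asIdeal := fun p => by
    obtain ⟨P, hP, hle⟩ := Ideal.exists_minimalPrimes_le (bot_le : (⊥ : Ideal F) ≤ p.asIdeal)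
    exact ⟨P, hP, hle⟩
  refine le_antisymm ?_ ?_
  · obtain ⟨p, -, hp⟩ := Groth.FibreDim.exists_ringKrullDim_quotient_eq_localDim k Q
    obtain ⟨P, hP, hle⟩ := hmin p
    rw [← hp, ← heq P hP]
    exact ringKrullDim_le_of_surjective (Ideal.Quotient.factor hle) (Ideal.Quotient.factor_surjective hle)
  · obtain ⟨P, hP, hle⟩ := hmin Q
    haveI := hP.1.1
    rw [← heq P hP]
    exact Groth.FibreDim.ringKrullDim_quotient_le_localDim k Q (p := ⟨P, inferInstance⟩) hle

omit [Algebra k F] [Algebra.FiniteType k F] in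
/-- The local ring of a quotient. -/
theorem ringKrullDim_localization_quotient (J : Ideal F) (Qb : PrimeSpectrum (F ⧸ J)) :
    ringKrullDim (Localization.AtPrime (Qb.asIdeal.comap (Ideal.Quotient.mk J)) ⧸
      J.map (algebraMap F (Localization.AtPrime (Qb.asIdeal.comap (Ideal.Quotient.mk J))))) =
      ringKrullDim (Localization.AtPrime Qb.asIdeal) := by
  let Q := Qb.asIdeal.comap (Ideal.Quotient.mk J)
  let A := Localization.AtPrime Q ⧸ J.map (algebraMap F (Localization.AtPrime Q))
  have hM : Algebra.algebraMapSubmonoid (F ⧸ J) Q.primeCompl = Qb.asIdeal.primeCompl := by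
    ext z
    constructor
    · rintro ⟨y, hy, rfl⟩
      exact hy
    · intro hz
      obtain ⟨y, rfl⟩ := Ideal.Quotient.mk_surjective z
      exact ⟨y, hz, rfl⟩
  haveI h1 : IsLocalization (Algebra.algebraMapSubmonoid (F ⧸ J) Q.primeCompl) A := inferInstance
  rw [hM] at h1
  haveI : IsLocalization.AtPrime A Qb.asIdeal := h1
  exact (IsLocalization.AtPrime.ringKrullDim_eq_height Qb.asIdeal A).trans
    (IsLocalization.AtPrime.ringKrullDim_eq_height Qb.asIdeal _).symm

include k heq in
/-- A sequence is regular at a point of its zero locus iff the zero locus has the expected local dimension,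
and the local dimension never drops by more than the length. -/
theorem isRegular_iff_and_le [LocCoh.IsCohenMacaulayRing F] (g : List F)
    (Qb : PrimeSpectrum (F ⧸ Ideal.ofList g)) :
    (RingTheory.Sequence.IsRegular (Localization.AtPrime (Qb.asIdeal.comap (Ideal.Quotient.mk (Ideal.ofList g))))
        (g.map (algebraMap F (Localization.AtPrime (Qb.asIdeal.comap (Ideal.Quotient.mk (Ideal.ofList g)))))) ↔
      FlatMor.localDim (PrimeSpectrum (F ⧸ Ideal.ofList g)) Qb + (g.length : WithBot ℕ∞) ≤ (d : WithBot ℕ∞)) ∧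
    (d : WithBot ℕ∞) ≤ FlatMor.localDim (PrimeSpectrum (F ⧸ Ideal.ofList g)) Qb + (g.length : WithBot ℕ∞) := by
  classical
  let J := Ideal.ofList g
  let Q := Qb.asIdeal.comap (Ideal.Quotient.mk J)
  let A := Localization.AtPrime Q
  let xs := g.map (algebraMap F A)
  haveI : IsNoetherianRing F := Algebra.FiniteType.isNoetherianRing k F
  have hA : LocCoh.IsCohenMacaulayLocalRing A :=
    LocCoh.IsCohenMacaulayRing.isCohenMacaulayLocalRing_localization Q
  have hxs : ∀ y ∈ xs, y ∈ IsLocalRing.maximalIdeal A := by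
    intro y hy
    obtain ⟨z, hz, rfl⟩ := List.mem_map.1 hy
    refine (IsLocalization.AtPrime.to_map_mem_maximal_iff A Q z _).2 ?_
    rw [Ideal.mem_comap, Ideal.Quotient.eq_zero_iff_mem.2 (show z ∈ J from Ideal.subset_span hz)]
    exact zero_mem _
  have hmap : Ideal.ofList xs = J.map (algebraMap F A) := (Ideal.map_ofList _ g).symm
  have hne : (⊤ : Submodule A A) ≠ Ideal.ofList xs • ⊤ := by
    rw [smul_eq_mul, Ideal.mul_top]
    exact fun h => (IsLocalRing.maximalIdeal.isMaximal A).ne_top (top_le_iff.1 (h.le.trans (Ideal.span_le.2 hxs)))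
  have hiff : RingTheory.Sequence.IsRegular A xs ↔ RingTheory.Sequence.IsWeaklyRegular A xs :=
    ⟨fun h => h.1, fun h => ⟨h, hne⟩⟩
  have h58 := (Groth.Agent.S5758.result A A hA.supportDim_eq_depth xs hxs).1
  have hq : Module.supportDim A (A ⧸ (Ideal.ofList xs • (⊤ : Submodule A A))) =
      ringKrullDim (Localization.AtPrime Qb.asIdeal) := by
    rw [smul_eq_mul, Ideal.mul_top, Module.supportDim_quotient_eq_ringKrullDim, hmap]
    exact ringKrullDim_localization_quotient J Qb
  rw [hq, Module.supportDim_self_eq_ringKrullDim, List.length_map] at h58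
  have hAle : ringKrullDim A ≤ ringKrullDim (Localization.AtPrime Qb.asIdeal) + (g.length : WithBot ℕ∞) := by
    have h := ringKrullDim_le_ringKrullDim_quotient_add_card (R := A) (s := xs.toFinset) (by
      intro y hy
      rw [Ring.jacobson_eq_sInf_isMaximal] at *
      exact Ideal.mem_sInf.2 fun {m} hm => by
        rw [IsLocalRing.eq_maximalIdeal hm]; exact hxs y (List.mem_toFinset.1 hy))
    rw [List.coe_toFinset, show Ideal.span {y | y ∈ xs} = Ideal.ofList xs from rfl, hmap,
      ringKrullDim_localization_quotient J Qb] at h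
    refine h.trans (add_le_add le_rfl ?_)
    exact_mod_cast (List.toFinset_card_le xs).trans (List.length_map _).le
  have hd := localDim_eq_of_equidim k heq ⟨Q, inferInstance⟩
  rw [localDim_eq_add k] at hd
  have hkerQ : RingHom.ker ((Ideal.Quotient.mk Qb.asIdeal).comp (Ideal.Quotient.mk J)) = Q := by
    rw [← RingHom.comap_ker, Ideal.mk_ker]
  have hquot : ringKrullDim ((F ⧸ J) ⧸ Qb.asIdeal) = ringKrullDim (F ⧸ Q) :=
    (ringKrullDim_eq_of_ringEquiv (RingHom.quotientKerEquivOfSurjective
      (f := (Ideal.Quotient.mk Qb.asIdeal).comp (Ideal.Quotient.mk J))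
      (Ideal.Quotient.mk_surjective.comp Ideal.Quotient.mk_surjective))).symm.trans
      (ringKrullDim_eq_of_ringEquiv (Ideal.quotEquivOfEq hkerQ))
  rw [localDim_eq_add k, hiff, h58, hquot]
  obtain ⟨a, ha⟩ := exists_nat_of_le (n := d) ringKrullDim_nonneg_of_nontrivial (le_trans (le_add_of_nonneg_left
    ringKrullDim_nonneg_of_nontrivial) hd.le)
  obtain ⟨s, hs⟩ := exists_nat_of_le (n := d) ringKrullDim_nonneg_of_nontrivial (le_trans (le_add_of_nonneg_right
    ringKrullDim_nonneg_of_nontrivial) hd.le)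
  haveI : Nontrivial (F ⧸ Q) := Ideal.Quotient.nontrivial_iff.2 (Ideal.IsPrime.ne_top inferInstance)
  change ringKrullDim A = _ at ha
  change ringKrullDim (F ⧸ Q) = _ at hs
  obtain ⟨b, hb⟩ := exists_nat_of_le (n := a + g.length) ringKrullDim_nonneg_of_nontrivial
    (show ringKrullDim (Localization.AtPrime Qb.asIdeal) ≤ ((a + g.length : ℕ) : WithBot ℕ∞) from by
      refine (ringKrullDim_le_of_surjective _ Ideal.Quotient.mk_surjective).trans (ha.le.trans ?_) |> fun h =>
        (ringKrullDim_localization_quotient J Qb).ge.trans h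
      exact_mod_cast Nat.le_add_right a g.length)
  rw [ha, hb] at hAle
  rw [ha, hs] at hd
  rw [ha, hb, hs]
  norm_cast at hd hAle ⊢
  omega

include k heq in
/-- A sequence is regular at a point of its zero locus iff the zero locus has the expected local dimension. -/
theorem isRegular_iff_localDim_add_le [LocCoh.IsCohenMacaulayRing F] (g : List F)
    (Qb : PrimeSpectrum (F ⧸ Ideal.ofList g)) :
    RingTheory.Sequence.IsRegular (Localization.AtPrime (Qb.asIdeal.comap (Ideal.Quotient.mk (Ideal.ofList g))))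
        (g.map (algebraMap F (Localization.AtPrime (Qb.asIdeal.comap (Ideal.Quotient.mk (Ideal.ofList g)))))) ↔
      FlatMor.localDim (PrimeSpectrum (F ⧸ Ideal.ofList g)) Qb + (g.length : WithBot ℕ∞) ≤ (d : WithBot ℕ∞) :=
  (isRegular_iff_and_le k heq g Qb).1

end Groth.FibreRegular
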