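import Groth.Agent.FibreRegular.LocalDim
import Groth.Agent.FibreDim.Semicontinuity
import Groth.Agent.FibreDim.Composition
import Groth.Prelude.Def_EGA4b
import Mathlib

/-! Openness, inside the zero locus, of the locus where a sequence is regular in the fibres. -/

set_option autoImplicit false
set_option linter.style.haveILetI false
set_option backward.isDefEq.respectTransparency.types false

set_option maxHeartbeats 1000000

universe u

open AlgebraicGeometry CategoryTheory Algebra.TensorProduct TensorProduct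

namespace Groth.FibreRegular

variable {R S : Type u} [CommRing R] [CommRing S] [Algebra R S]

/-- The local rings of the fibre rings are the fibre local rings, compatibly with the maps from the algebra. -/
theorem algEquivAux₂_includeRight (p : Ideal R) [p.IsPrime] (Q : Ideal (p.Fiber S)) [Q.IsPrime] (s : S) :
    Ideal.Fiber.algEquivAux₂ p Q (algebraMap (p.Fiber S) (Localization.AtPrime Q) (1 ⊗ₜ s)) =
      Ideal.Quotient.mk _ (algebraMap S (Localization.AtPrime
        (Q.comap (Algebra.TensorProduct.includeRight (R := R) (A := p.ResidueField) (B := S)))) s) := by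
  letI : Algebra S (p.Fiber S) := Algebra.TensorProduct.rightAlgebra
  rw [show algebraMap (p.Fiber S) (Localization.AtPrime Q) (1 ⊗ₜ s) =
    algebraMap S (Localization.AtPrime Q) s from (IsScalarTower.algebraMap_apply S (p.Fiber S) _ s).symm]
  delta Ideal.Fiber.algEquivAux₂
  simp only [AlgEquiv.trans_apply, AlgEquiv.restrictScalars_apply, AlgEquiv.commutes]
  rw [IsScalarTower.algebraMap_apply S (S ⧸ p.map (algebraMap R S)), AlgEquiv.commutes]
  rfl

/-- The regularity of a sequence in the local ring of a fibre ring and in the fibre local ring agree. -/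
theorem isRegular_fibre_iff (p : Ideal R) [p.IsPrime] (Q : Ideal (p.Fiber S)) [Q.IsPrime]
    (q : Ideal S) [q.IsPrime]
    (hQ : Q.comap (Algebra.TensorProduct.includeRight (R := R) (A := p.ResidueField) (B := S)) = q)
    (hq : q.comap (algebraMap R S) = p) (f : List S) :
    RingTheory.Sequence.IsRegular (Localization.AtPrime Q)
      ((f.map (Algebra.TensorProduct.includeRight (R := R) (A := p.ResidueField) (B := S))).map
        (algebraMap (p.Fiber S) (Localization.AtPrime Q))) ↔
    RingTheory.Sequence.IsRegular (EGA4.FibLocRing R S q)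
      (f.map (algebraMap S (EGA4.FibLocRing R S q))) := by
  subst hQ
  let e := (Ideal.Fiber.algEquivAux₂ p Q).toRingEquiv.trans (Ideal.quotEquivOfEq
    (show _ = ((Q.comap Algebra.TensorProduct.includeRight).comap (algebraMap R S)).map
      (algebraMap R (Localization.AtPrime (Q.comap Algebra.TensorProduct.includeRight))) by
      rw [hq, Ideal.map_map, ← IsScalarTower.algebraMap_eq]))
  refine e.toAddEquiv.isRegular_congr (List.forall₂_map_left_iff.mpr (List.forall₂_map_left_iff.mpr
    (List.forall₂_map_right_iff.mpr (List.forall₂_same.mpr fun r _ x => ?_))))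
  change e (_ * x) = _ * e x
  rw [map_mul]
  refine congrArg (· * e x) ?_
  simp only [e, RingEquiv.trans_apply, AlgEquiv.coe_ringEquiv]
  rw [Algebra.TensorProduct.includeRight_apply, algEquivAux₂_includeRight, Ideal.quotEquivOfEq_mk]
  rfl

theorem add_natCast_le_iff {x : WithBot ℕ∞} {i d : ℕ} (h : i ≤ d) :
    x + (i : WithBot ℕ∞) ≤ (d : WithBot ℕ∞) ↔ x ≤ ((d - i : ℕ) : WithBot ℕ∞) := by
  induction x using WithBot.recBotCoe with
  | bot => simp
  | coe a =>
    induction a using ENat.recTopCoe with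
    | top =>
      simp only [← WithBot.coe_natCast, ← WithBot.coe_add, top_add, WithBot.coe_le_coe, top_le_iff,
        ENat.natCast_ne_top]
    | coe m =>
      rw [← WithBot.coe_natCast, ← WithBot.coe_natCast, ← WithBot.coe_natCast, ← WithBot.coe_add,
        WithBot.coe_le_coe, WithBot.coe_le_coe]
      norm_cast
      omega

theorem localDim_nonneg (k : Type u) [Field k] {A : Type u} [CommRing A] [Algebra k A] [Algebra.FiniteType k A]
    (Q : PrimeSpectrum A) : 0 ≤ FlatMor.localDim (PrimeSpectrum A) Q := by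
  haveI : Nontrivial (A ⧸ Q.asIdeal) := Ideal.Quotient.nontrivial_iff.2 Q.isPrime.ne_top
  rw [localDim_eq_add k]
  exact add_nonneg ringKrullDim_nonneg_of_nontrivial ringKrullDim_nonneg_of_nontrivial

theorem localDim_quotient_nonneg (k : Type u) [Field k] {A : Type u} [CommRing A] [Algebra k A]
    [Algebra.FiniteType k A] (J : Ideal A) (Qb : PrimeSpectrum (A ⧸ J)) :
    0 ≤ FlatMor.localDim (PrimeSpectrum (A ⧸ J)) Qb :=
  localDim_nonneg k Qb

theorem isEmbedding_comap_mk {A : Type u} [CommRing A] (J : Ideal A) :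
    Topology.IsEmbedding (PrimeSpectrum.comap (Ideal.Quotient.mk J)) :=
  (PrimeSpectrum.isClosedEmbedding_comap_of_surjective (A ⧸ J) (Ideal.Quotient.mk J)
    Ideal.Quotient.mk_surjective).isEmbedding

theorem exists_comap_mk_eq {A : Type u} [CommRing A] (J : Ideal A) (Q : PrimeSpectrum A) (h : J ≤ Q.asIdeal) :
    ∃ Qb : PrimeSpectrum (A ⧸ J), PrimeSpectrum.comap (Ideal.Quotient.mk J) Qb = Q :=
  ⟨⟨Q.asIdeal.map (Ideal.Quotient.mk J), Ideal.map_isPrime_of_surjective Ideal.Quotient.mk_surjective
    (by rwa [Ideal.mk_ker])⟩, PrimeSpectrum.ext ((Ideal.comap_map_quotientMk J Q.asIdeal).trans (sup_eq_right.2 h))⟩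

/-- The regular locus of a sequence in the fibres is open in its zero locus. -/
theorem exists_open_regular_locus [Algebra.FiniteType R S] {d : ℕ}
    (hCM : ∀ p : PrimeSpectrum R, LocCoh.IsCohenMacaulayRing (p.asIdeal.Fiber S))
    (heq : ∀ p : PrimeSpectrum R, ∀ P ∈ minimalPrimes (p.asIdeal.Fiber S),
      ringKrullDim (p.asIdeal.Fiber S ⧸ P) = (d : WithBot ℕ∞))
    (f : List S) :
    ∃ U : Set (PrimeSpectrum S), IsOpen U ∧ ∀ q : PrimeSpectrum S, Ideal.ofList f ≤ q.asIdeal →
      (q ∈ U ↔ RingTheory.Sequence.IsRegular (EGA4.FibLocRing R S q.asIdeal)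
        (f.map (algebraMap S (EGA4.FibLocRing R S q.asIdeal)))) := by
  classical
  let I := Ideal.ofList f
  let s : Spec (CommRingCat.of (S ⧸ I)) ⟶ Spec (CommRingCat.of R) :=
    Spec.map (CommRingCat.ofHom (algebraMap R (S ⧸ I)))
  haveI : LocallyOfFiniteType s :=
    (HasRingHomProperty.Spec_iff (P := @LocallyOfFiniteType)).mpr
      (RingHom.finiteType_algebraMap.mpr inferInstance)
  let W : Set (PrimeSpectrum (S ⧸ I)) :=
    if f.length ≤ d then {x | FlatMor.fibreDimAt s x ≤ ((d - f.length : ℕ) : WithBot ℕ∞)} else ∅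
  have hW : IsOpen W := by
    by_cases h : f.length ≤ d
    · simp only [W, if_pos h]
      exact Groth.FibreDim.isOpen_fibreDimAt_le s (d - f.length)
    · simp only [W, if_neg h]
      exact isOpen_empty
  have hι := PrimeSpectrum.isClosedEmbedding_comap_of_surjective (S ⧸ I) (Ideal.Quotient.mk I)
    Ideal.Quotient.mk_surjective
  obtain ⟨V, hV, hVW⟩ := hι.isEmbedding.isInducing.isOpen_iff.1 hW
  refine ⟨V, hV, fun q hq => ?_⟩
  let p : PrimeSpectrum R := PrimeSpectrum.comap (algebraMap R S) q
  let incl : S →+* p.asIdeal.Fiber S :=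
    (Algebra.TensorProduct.includeRight (R := R) (A := p.asIdeal.ResidueField) (B := S)).toRingHom
  let J : Ideal (p.asIdeal.Fiber S) := Ideal.ofList (f.map incl)
  have hJ : I.map incl = J := Ideal.map_ofList _ f
  let ψ : S ⧸ I →+* p.asIdeal.Fiber S ⧸ J := Ideal.quotientMap J incl (Ideal.map_le_iff_le_comap.1 hJ.le)
  let cψ : PrimeSpectrum (p.asIdeal.Fiber S ⧸ J) → PrimeSpectrum (S ⧸ I) :=
    PrimeSpectrum.comap (R := S ⧸ I) (S := p.asIdeal.Fiber S ⧸ J) ψ
  let H := PrimeSpectrum.preimageHomeomorphFiber R S p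
  have hcomp' : ∀ z : PrimeSpectrum (p.asIdeal.Fiber S ⧸ J),
      PrimeSpectrum.comap (Ideal.Quotient.mk I) (cψ z) =
        (H.symm (PrimeSpectrum.comap (Ideal.Quotient.mk J) z) : PrimeSpectrum S) :=
    fun z => PrimeSpectrum.ext (Ideal.ext fun _ => Iff.rfl)
  have hemb : Topology.IsEmbedding cψ := by
    refine (hι.isEmbedding.of_comp_iff).1 ?_
    rw [show PrimeSpectrum.comap (Ideal.Quotient.mk I) ∘ cψ = _ from funext hcomp']
    exact (Topology.IsEmbedding.subtypeVal.comp H.symm.isEmbedding).comp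
      (isEmbedding_comap_mk J)
  have hlift : ∀ x : PrimeSpectrum (S ⧸ I), PrimeSpectrum.comap (algebraMap R (S ⧸ I)) x = p →
      ∃ Qb : PrimeSpectrum (p.asIdeal.Fiber S ⧸ J), cψ Qb = x := by
    intro x hx
    let Q := H ⟨PrimeSpectrum.comap (Ideal.Quotient.mk I) x, hx⟩
    have hQ : (PrimeSpectrum.comap incl Q) = PrimeSpectrum.comap (Ideal.Quotient.mk I) x :=
      congrArg Subtype.val (H.symm_apply_apply ⟨PrimeSpectrum.comap (Ideal.Quotient.mk I) x, hx⟩)
    have hJQ : J ≤ Q.asIdeal := by
      rw [← hJ, Ideal.map_le_iff_le_comap]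
      refine le_of_le_of_eq ?_ (congrArg PrimeSpectrum.asIdeal hQ).symm
      intro z hz
      rw [PrimeSpectrum.comap_asIdeal, Ideal.mem_comap, Ideal.Quotient.eq_zero_iff_mem.2 hz]
      exact zero_mem _
    obtain ⟨Qb, hQb⟩ := exists_comap_mk_eq J Q hJQ
    refine ⟨Qb, hι.injective ?_⟩
    refine (hcomp' Qb).trans ?_
    rw [hQb]
    exact hQ
  have hrange : Set.range cψ = s.base ⁻¹' {p} := by
    refine Set.ext fun x => ⟨?_, fun hx => hlift x hx⟩
    rintro ⟨Qb, rfl⟩
    change PrimeSpectrum.comap (algebraMap R (S ⧸ I)) (cψ Qb) = p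
    exact ((congrArg (PrimeSpectrum.comap (algebraMap R S)) (hcomp' Qb))).trans
      (H.symm _).2
  obtain ⟨x, hxq⟩ := exists_comap_mk_eq I q hq
  obtain ⟨Qb, hQbx⟩ := hlift x (congrArg (PrimeSpectrum.comap (algebraMap R S)) hxq)
  have hqe : PrimeSpectrum.comap (Ideal.Quotient.mk I) (cψ Qb) = q := by rw [hQbx, hxq]
  have hfib := Groth.FibreDim.fibreDimAt_eq_of_range s p hemb hrange Qb
  haveI := hCM p
  have hcm := isRegular_iff_localDim_add_le p.asIdeal.ResidueField (heq p) (f.map incl) Qb
  rw [List.length_map] at hcm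
  have hmem : q ∈ V ↔
      FlatMor.localDim (PrimeSpectrum (p.asIdeal.Fiber S ⧸ J)) Qb + (f.length : WithBot ℕ∞) ≤
        (d : WithBot ℕ∞) := by
    rw [← hqe, ← Set.mem_preimage, hVW]
    by_cases h : f.length ≤ d
    · simp only [W, if_pos h]
      rw [add_natCast_le_iff h, ← hfib]
      rfl
    · simp only [W, if_neg h, Set.mem_empty_iff_false, false_iff]
      intro hle
      have h0 : (f.length : WithBot ℕ∞) ≤ (d : WithBot ℕ∞) :=
        le_trans (le_add_of_nonneg_left (localDim_quotient_nonneg p.asIdeal.ResidueField J Qb)) hle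
      norm_cast at h0
  rw [hmem, ← hcm]
  refine isRegular_fibre_iff p.asIdeal (Qb.asIdeal.comap (Ideal.Quotient.mk J))
    q.asIdeal ?_ rfl f
  exact (congrArg PrimeSpectrum.asIdeal (hqe.symm.trans (hcomp' Qb))).symm

end Groth.FibreRegular
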